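import Cfsg.Agent.H144.TC.Even
import Cfsg.Agent.H126.M3.Mat

/-!
# S2464, row `PSp_8(q)`, box F: exchange of the two totally isotropic spaces

`hasType_swap`, `hasType_swap1` : an isometry of type `ξ⁻¹` (`ξ⁻¹ ⊕ 1`) is of type `ξ` (`ξ ⊕ 1`).
`sing_xi` : `Sing ξ (cu s r) (cu r s)`.
-/

set_option autoImplicit false
open Polynomial

noncomputable section

namespace Cfsg.Agent.H930.TC

open Cfsg.Agent.H144 Cfsg.Agent.H144.War Cfsg.Agent.H144.TC
open Cfsg.Agent.H126.M3 (cu)

variable {F V M N : Type*} [Field F] [AddCommGroup V] [Module F V] [AddCommGroup M] [Module F M]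
  [AddCommGroup N] [Module F N]

/-! ### Cyclic operators -/

theorem dvd_iff {f : F[X]} (hf : Irreducible f) {a : Module.End F M} (ha : aeval a f = 0) {v : M} (hv : v ≠ 0)
    (p : F[X]) : aeval a p v = 0 ↔ f ∣ p := by
  constructor
  · intro h
    by_contra hnd
    obtain ⟨x, y, hxy⟩ := (Irreducible.coprime_iff_not_dvd hf).2 hnd
    apply hv
    have h1 : aeval a (x * f + y * p) v = v := by rw [hxy]; simp
    rw [map_add, map_mul, map_mul, LinearMap.add_apply, Module.End.mul_apply, Module.End.mul_apply, ha, h] at h1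
    simpa using h1.symm
  · rintro ⟨q, rfl⟩
    rw [map_mul, ha, zero_mul, LinearMap.zero_apply]

theorem surj_of [FiniteDimensional F M] {f : F[X]} (hf : Irreducible f) {a : Module.End F M} (ha : aeval a f = 0)
    (hM : Module.finrank F M = f.natDegree) {v : M} (hv : v ≠ 0) (w : M) : ∃ p : F[X], aeval a p v = w := by
  let α : F[X] →ₗ[F] M := (LinearMap.applyₗ v) ∘ₗ (aeval a).toLinearMap
  let β : degreeLT F f.natDegree →ₗ[F] M := α ∘ₗ (degreeLT F f.natDegree).subtype
  have hinj : Function.Injective β := by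
    rw [← LinearMap.ker_eq_bot, LinearMap.ker_eq_bot']
    rintro ⟨p, hp⟩ h0
    have h1 : f ∣ p := (dvd_iff hf ha hv p).1 h0
    have h2 : p.degree < f.degree := by
      rw [degree_eq_natDegree hf.ne_zero]
      exact mem_degreeLT.1 hp
    exact Subtype.ext (eq_zero_of_dvd_of_degree_lt h1 h2)
  have hfin : Module.finrank F (degreeLT F f.natDegree) = Module.finrank F M := by
    rw [(degreeLTEquiv F f.natDegree).finrank_eq, Module.finrank_fin_fun, hM]
  have : FiniteDimensional F (degreeLT F f.natDegree) :=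
    Module.Finite.equiv (degreeLTEquiv F f.natDegree).symm
  obtain ⟨p, hp⟩ := (LinearMap.injective_iff_surjective_of_finrank_eq_finrank hfin).1 hinj w
  exact ⟨p, hp⟩

/-- two operators killed by the same irreducible polynomial of degree `dim M = dim N` are conjugate -/
theorem exists_intertwine [FiniteDimensional F M] [FiniteDimensional F N] {f : F[X]} (hf : Irreducible f)
    {a : Module.End F M} {b : Module.End F N} (ha : aeval a f = 0) (hb : aeval b f = 0)
    (hM : Module.finrank F M = f.natDegree) (hN : Module.finrank F N = f.natDegree) :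
    ∃ θ : M ≃ₗ[F] N, ∀ v, θ (a v) = b (θ v) := by
  have hpos : 0 < f.natDegree := hf.natDegree_pos
  have : Nontrivial M := Module.nontrivial_of_finrank_pos (R := F) (by omega)
  have : Nontrivial N := Module.nontrivial_of_finrank_pos (R := F) (by omega)
  obtain ⟨v, hv⟩ := exists_ne (0 : M)
  obtain ⟨w, hw⟩ := exists_ne (0 : N)
  let α : F[X] →ₗ[F] M := (LinearMap.applyₗ v) ∘ₗ (aeval a).toLinearMap
  let β : F[X] →ₗ[F] N := (LinearMap.applyₗ w) ∘ₗ (aeval b).toLinearMap
  have hα : Function.Surjective α := fun x => surj_of hf ha hM hv x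
  have hβ : Function.Surjective β := fun x => surj_of hf hb hN hw x
  have hk : LinearMap.ker α = LinearMap.ker β := by
    ext p
    exact (dvd_iff hf ha hv p).trans (dvd_iff hf hb hw p).symm
  let e1 := α.quotKerEquivOfSurjective hα
  let e2 := β.quotKerEquivOfSurjective hβ
  have he1 : ∀ p, e1 (Submodule.Quotient.mk p) = α p := fun p => rfl
  have he2 : ∀ p, e2 (Submodule.Quotient.mk p) = β p := fun p => rfl
  let θ : M ≃ₗ[F] N := e1.symm.trans ((Submodule.quotEquivOfEq _ _ hk).trans e2)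
  have hθ : ∀ p, θ (α p) = β p := by
    intro p
    change e2 (Submodule.quotEquivOfEq _ _ hk (e1.symm (α p))) = β p
    rw [← he1, e1.symm_apply_apply, Submodule.quotEquivOfEq_mk, he2]
  refine ⟨θ, fun x => ?_⟩
  obtain ⟨p, rfl⟩ := hα x
  have h1 : a (α p) = α (X * p) := by
    change a (aeval a p v) = aeval a (X * p) v
    rw [map_mul, aeval_X]
    rfl
  have h2 : b (β p) = β (X * p) := by
    change b (aeval b p w) = aeval b (X * p) w
    rw [map_mul, aeval_X]
    rfl
  rw [h1, hθ, hθ, h2]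

theorem aeval_dual (a : Module.End F M) (p : F[X]) (l : Module.Dual F M) :
    aeval (LinearMap.dualMap a : Module.End F (Module.Dual F M)) p l = l ∘ₗ aeval a p := by
  induction p using Polynomial.induction_on' with
  | add p q hp hq => rw [map_add, LinearMap.add_apply, hp, hq, map_add, LinearMap.comp_add]
  | monomial k c =>
    have hk : ∀ k : ℕ, ((LinearMap.dualMap a : Module.End F (Module.Dual F M)) ^ k) l = l ∘ₗ (a ^ k) := by
      intro k
      induction k with
      | zero => rfl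
      | succ k ih =>
        rw [pow_succ', Module.End.mul_apply, ih, pow_succ]
        rfl
    ext v
    simp only [aeval_monomial, Module.algebraMap_end_eq_smul_id, Module.End.mul_apply, LinearMap.smul_apply,
      LinearMap.id_apply, hk, LinearMap.comp_apply, map_smul]

/-- the dual of an operator killed by an irreducible polynomial -/
theorem exists_dual [FiniteDimensional F M] {f : F[X]} (hf : Irreducible f) {a : Module.End F M} (ha : aeval a f = 0)
    (hM : Module.finrank F M = f.natDegree) :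
    ∃ θ : Module.Dual F M ≃ₗ[F] M, ∀ l : Module.Dual F M, θ (l ∘ₗ a) = a (θ l) := by
  obtain ⟨θ, hθ⟩ := exists_intertwine (a := (LinearMap.dualMap a : Module.End F (Module.Dual F M))) hf (b := a) (by
    ext l : 1
    rw [aeval_dual, ha, LinearMap.comp_zero, LinearMap.zero_apply]) ha (by rw [Subspace.dual_finrank_eq, hM]) hM
  exact ⟨θ, fun l => hθ l⟩

/-! ### The exchange -/

theorem swap_of [FiniteDimensional F V] [FiniteDimensional F N] {B : LinearMap.BilinForm F V} (hB : Alt B)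
    (hN : Nond B) {ζ : N ≃ₗ[F] N} (θ : Module.Dual F N ≃ₗ[F] N)
    (hθ : ∀ l : Module.Dual F N, θ (l ∘ₗ (ζ : N →ₗ[F] N)) = ζ (θ l)) {X : V ≃ₗ[F] V} (h : HasType B ζ⁻¹ X) :
    HasType B ζ X := by
  obtain ⟨hX, P, Q, hP, hQ, hPQ, hXQ, φ, hφ⟩ := h
  let κ : Q →ₗ[F] Module.Dual F N := (B.compl₁₂ (P.subtype ∘ₗ (φ.symm : N →ₗ[F] P)) Q.subtype).flip
  have hκ : ∀ (q : Q) (n : N), κ q n = B (φ.symm n : V) q := fun q n => rfl
  have hinj : Function.Injective κ := by
    rw [← LinearMap.ker_eq_bot, LinearMap.ker_eq_bot']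
    intro q hq
    have : (q : V) = 0 := by
      apply eq_zero_of_orth hN hPQ _ (hQ q q.2)
      intro w hw
      have := LinearMap.congr_fun hq (φ ⟨w, hw⟩)
      rw [hκ, φ.symm_apply_apply] at this
      exact hB.zero this
    exact Subtype.ext this
  have hfin : Module.finrank F Q = Module.finrank F (Module.Dual F N) := by
    rw [Subspace.dual_finrank_eq, ← finrank_eq hB hN hP hQ hPQ, φ.finrank_eq]
  let κe : Q ≃ₗ[F] Module.Dual F N := LinearEquiv.ofInjectiveOfFinrankEq κ hinj hfin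
  have hκe : ∀ q, κe q = κ q := fun q => rfl
  have hXP : ∀ v ∈ P, X v ∈ P := fun v hv => by rw [hφ ⟨v, hv⟩]; exact (tr φ ζ⁻¹ ⟨v, hv⟩).2
  refine ⟨hX, Q, P, hQ, hP, by rw [sup_comm]; exact hPQ, hXP, κe.trans θ, fun q => ?_⟩
  have h1 : (κe.trans θ) ⟨X q, hXQ q q.2⟩ = ζ ((κe.trans θ) q) := by
    rw [LinearEquiv.trans_apply, LinearEquiv.trans_apply, ← hθ, hκe, hκe]
    congr 1
    ext n
    rw [hκ, LinearMap.comp_apply, hκ]
    have h2 := hφ (φ.symm (ζ n))
    rw [tr_apply, φ.apply_symm_apply] at h2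
    have h3 : ζ⁻¹ (ζ n) = n := inv_app ζ n
    rw [h3] at h2
    have h4 := hX (φ.symm (ζ n) : V) (q : V)
    rw [h2] at h4
    exact h4
  rw [tr_apply, ← h1, LinearEquiv.symm_apply_apply]

/-- the dual of `s1 ξ` -/
theorem exists_dual1 {ξ : M ≃ₗ[F] M} {θ : Module.Dual F M ≃ₗ[F] M}
    (hθ : ∀ l : Module.Dual F M, θ (l ∘ₗ (ξ : M →ₗ[F] M)) = ξ (θ l)) :
    ∃ θ' : Module.Dual F (M × F) ≃ₗ[F] (M × F), ∀ l : Module.Dual F (M × F),
      θ' (l ∘ₗ (s1 ξ : (M × F) →ₗ[F] (M × F))) = s1 ξ (θ' l) := by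
  refine ⟨(Module.dualProdDualEquivDual F M F).symm.trans (θ.prodCongr (LinearMap.ringLmapEquivSelf F F F)),
    fun l => ?_⟩
  have e : ∀ l : Module.Dual F (M × F),
      ((Module.dualProdDualEquivDual F M F).symm.trans (θ.prodCongr (LinearMap.ringLmapEquivSelf F F F))) l =
      (θ (l ∘ₗ LinearMap.inl F M F), l (0, 1)) := fun l => rfl
  rw [e, e, s1_apply]
  refine Prod.ext ?_ ?_
  · change θ _ = ξ (θ _)
    rw [← hθ]
    rfl
  · change l (s1 ξ (0, 1)) = l (0, 1)
    rw [s1_apply, map_zero]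

/-- **box F** : type `ξ⁻¹` is type `ξ`, `ξ` killed by an irreducible polynomial of degree `dim M` -/
theorem hasType_swap_of [FiniteDimensional F V] [FiniteDimensional F M] {B : LinearMap.BilinForm F V} (hB : Alt B)
    (hN : Nond B) {f : F[X]} (hf : Irreducible f) {ξ : M ≃ₗ[F] M} (hξ : aeval (ξ : Module.End F M) f = 0)
    (hM : Module.finrank F M = f.natDegree) {X : V ≃ₗ[F] V} (h : HasType B ξ⁻¹ X) : HasType B ξ X := by
  obtain ⟨θ, hθ⟩ := exists_dual hf hξ hM
  exact swap_of hB hN θ hθ h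

theorem hasType_swap1_of [FiniteDimensional F V] [FiniteDimensional F M] {B : LinearMap.BilinForm F V} (hB : Alt B)
    (hN : Nond B) {f : F[X]} (hf : Irreducible f) {ξ : M ≃ₗ[F] M} (hξ : aeval (ξ : Module.End F M) f = 0)
    (hM : Module.finrank F M = f.natDegree) {X : V ≃ₗ[F] V} (h : HasType B (s1 ξ⁻¹) X) : HasType B (s1 ξ) X := by
  obtain ⟨θ, hθ⟩ := exists_dual hf hξ hM
  obtain ⟨θ', hθ'⟩ := exists_dual1 hθ
  rw [← s1_inv] at h
  exact swap_of hB hN θ' hθ' h

/-! ### The cubic -/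

theorem cu_natDegree (s r : F) : (cu s r).natDegree = 3 := by
  unfold cu
  compute_degree!

theorem cu_monic (s r : F) : (cu s r).Monic := by
  unfold cu
  monicity!

theorem cu_eval_one (s r : F) : (cu s r).eval 1 = r - s := by
  unfold cu
  simp
  ring

theorem ne_of_irr {s r : F} (hirr : Irreducible (cu s r)) : s ≠ r := by
  rintro rfl
  have h1 : (cu s s).IsRoot 1 := by
    rw [IsRoot.def, cu_eval_one, sub_self]
  have h2 := degree_eq_one_of_irreducible_of_root hirr h1
  rw [degree_eq_natDegree hirr.ne_zero, cu_natDegree] at h2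
  norm_num at h2

theorem eval_one_ne {s r : F} (hirr : Irreducible (cu s r)) : (cu s r).eval 1 ≠ 0 := by
  rw [cu_eval_one]
  exact sub_ne_zero.2 (ne_of_irr hirr).symm

theorem eval_one_ne' {s r : F} (hirr : Irreducible (cu s r)) : (cu r s).eval 1 ≠ 0 := by
  rw [cu_eval_one]
  exact sub_ne_zero.2 (ne_of_irr hirr)

theorem aeval_cu (a : Module.End F M) (s r : F) (v : M) :
    aeval a (cu s r) v = a (a (a v)) - s • a (a v) + r • a v - v := by
  unfold cu
  simp only [map_sub, map_add, map_mul, aeval_X, aeval_C, LinearMap.sub_apply, LinearMap.add_apply,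
    Module.End.mul_apply, Module.algebraMap_end_eq_smul_id, LinearMap.smul_apply, LinearMap.id_apply, pow_succ, pow_zero,
    Module.End.one_apply, map_one]

/-- `aeval ξ⁻¹ (cu s r) (ξ³ w) = - aeval ξ (cu r s) w` -/
theorem aeval_inv_cu (ξ : M ≃ₗ[F] M) (s r : F) (w : M) :
    aeval ((ξ⁻¹ : M ≃ₗ[F] M) : Module.End F M) (cu s r) (ξ (ξ (ξ w))) = - aeval (ξ : Module.End F M) (cu r s) w := by
  rw [aeval_cu, aeval_cu]
  change ξ⁻¹ (ξ⁻¹ (ξ⁻¹ (ξ (ξ (ξ w))))) - s • ξ⁻¹ (ξ⁻¹ (ξ (ξ (ξ w)))) + r • ξ⁻¹ (ξ (ξ (ξ w))) - ξ (ξ (ξ w)) =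
    -(ξ (ξ (ξ w)) - r • ξ (ξ w) + s • ξ w - w)
  rw [inv_app, inv_app, inv_app]
  abel

/-- the polynomial conditions -/
theorem sing_xi {s r : F} (hirr : Irreducible (cu s r)) {ξ : M ≃ₗ[F] M}
    (hξ : aeval (ξ : Module.End F M) (cu s r) = 0) : Sing ξ (cu s r) (cu r s) := by
  have hx : ∀ v : M, ∃ w, ξ (ξ (ξ w)) = v := fun v => ⟨ξ.symm (ξ.symm (ξ.symm v)), by simp⟩
  have hinj : ∀ v, aeval (ξ : Module.End F M) (cu r s) v = 0 → v = 0 := by
    intro v hv
    by_contra hv0
    have h1 := (dvd_iff hirr hξ hv0 _).1 hv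
    have h2 := eq_of_monic_of_dvd_of_natDegree_le (cu_monic s r) (cu_monic r s) h1 (by
      rw [cu_natDegree, cu_natDegree])
    have h3 := congrArg (fun p : F[X] => p.eval 1) h2
    simp only [cu_eval_one] at h3
    have h4 := congrArg (fun p : F[X] => p.coeff 2) h2
    have hc : ∀ s r : F, (cu s r).coeff 2 = -s := by
      intro s r
      unfold cu
      simp [coeff_one]
    simp only [hc] at h4
    exact ne_of_irr hirr (neg_injective h4).symm
  refine ⟨fun v => by rw [hξ, LinearMap.zero_apply], fun v hv => ?_, fun v => ?_, hinj⟩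
  · obtain ⟨w, rfl⟩ := hx v
    rw [aeval_inv_cu, neg_eq_zero] at hv
    rw [hinj w hv, map_zero, map_zero, map_zero]
  · obtain ⟨w, rfl⟩ := hx v
    rw [aeval_inv_cu, hξ, LinearMap.zero_apply, neg_zero]

/-! ### `ξ` given by a matrix -/

theorem aeval_of_charpoly {s r : F} {ξ : (Fin 3 → F) ≃ₗ[F] (Fin 3 → F)}
    (hξ : (LinearMap.toMatrix' (ξ : (Fin 3 → F) →ₗ[F] (Fin 3 → F))).charpoly = cu s r) :
    aeval (ξ : Module.End F (Fin 3 → F)) (cu s r) = 0 := by
  rw [← hξ, ← LinearMap.toMatrix_eq_toMatrix', LinearMap.charpoly_toMatrix]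
  exact LinearMap.aeval_self_charpoly _

variable {s r : F} {ξ : (Fin 3 → F) ≃ₗ[F] (Fin 3 → F)}

theorem finrank_three : Module.finrank F (Fin 3 → F) = (cu s r).natDegree := by
  rw [cu_natDegree, Module.finrank_fin_fun]

theorem sing_three (hirr : Irreducible (cu s r))
    (hξ : (LinearMap.toMatrix' (ξ : (Fin 3 → F) →ₗ[F] (Fin 3 → F))).charpoly = cu s r) : Sing ξ (cu s r) (cu r s) :=
  sing_xi hirr (aeval_of_charpoly hξ)

theorem hasType_swap [FiniteDimensional F V] {B : LinearMap.BilinForm F V} (hB : Alt B) (hN : Nond B)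
    (hirr : Irreducible (cu s r))
    (hξ : (LinearMap.toMatrix' (ξ : (Fin 3 → F) →ₗ[F] (Fin 3 → F))).charpoly = cu s r) {X : V ≃ₗ[F] V}
    (h : HasType B (s1 ξ⁻¹) X) : HasType B (s1 ξ) X :=
  hasType_swap1_of hB hN hirr (aeval_of_charpoly hξ) finrank_three h

theorem hasType_swap' [FiniteDimensional F V] {B : LinearMap.BilinForm F V} (hB : Alt B) (hN : Nond B)
    (hirr : Irreducible (cu s r))
    (hξ : (LinearMap.toMatrix' (ξ : (Fin 3 → F) →ₗ[F] (Fin 3 → F))).charpoly = cu s r) {X : V ≃ₗ[F] V}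
    (h : HasType B ξ⁻¹ X) : HasType B ξ X :=
  hasType_swap_of hB hN hirr (aeval_of_charpoly hξ) finrank_three h

end Cfsg.Agent.H930.TC
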